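import Cfsg.Agent.H16.Sc.A7
import Cfsg.Agent.H16.Sch3

/-! Generated by tools/h16 (computation kit). -/

set_option maxRecDepth 100000
set_option maxHeartbeats 0

namespace H16.CvA7

open H26 (jn)
open H26 (jn)
noncomputable def nA0_0 : ℕ := (nat_lit 0x330000300300030000333003033303000033333330000330033300000000)
noncomputable def nA0_1 : ℕ := (nat_lit 0xf0300030f03000c0f0f0c000c0c0000000c00000c0c0000000c00000000)
noncomputable def nA0_2 : ℕ := (nat_lit 0xff00f000cc003c003c00cf00c000f0003f000000cf000c00c000000000)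
noncomputable def nA0_3 : ℕ := (nat_lit 0xff00000fcc00000c3c00000fc300000cc030000000000000000)
noncomputable def nA0_4 : ℕ := (nat_lit 0xc0c00000000000c0303300000000fc3333f00000000030c00000)
noncomputable def nA0_5 : ℕ := (nat_lit 0x3000303f0033000000000000000000c0000000000000)
noncomputable def nA0_6 : ℕ := (nat_lit 0xf000c0ff0033c0cc000030000000)
noncomputable def nA0_7 : ℕ := (nat_lit 0xffc00cccf3330000000000000000cc0f3fff30000000)
noncomputable def nA0_8 : ℕ := (nat_lit 0x333300000000c0ccf0c300000000fcff33c0000000003000c0c0)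
noncomputable def nA0_9 : ℕ := (nat_lit 0xf3c30000fc0c00003f3f00003c00000033f00000f0000000ffc0)
noncomputable def nA0_10 : ℕ := (nat_lit 0xff00c3003f00f0000000cf00cc0000000000c300cf00cc0030003f00c0)
noncomputable def nA0_11 : ℕ := (nat_lit 0xc0c0f03030f0c0f03030f00030c000f00000f0f03030c00000f00000003)
noncomputable def nA0_12 : ℕ := (nat_lit 0x333330303330000333030030030000003030000003330300000003)
noncomputable def nA0_13 : ℕ := (nat_lit 0x1051410155114405400000100011500540000005554410000055000004)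
noncomputable def nA0 : H26.Net := H26.Net.cons (nat_lit 2) nA0_0 (H26.Net.cons (nat_lit 4) nA0_1 (H26.Net.cons (nat_lit 8) nA0_2 (H26.Net.cons (nat_lit 16) nA0_3 (H26.Net.cons (nat_lit 32) nA0_4 (H26.Net.cons (nat_lit 64) nA0_5 (H26.Net.cons (nat_lit 128) nA0_6 (H26.Net.cons (nat_lit 64) nA0_7 (H26.Net.cons (nat_lit 32) nA0_8 (H26.Net.cons (nat_lit 16) nA0_9 (H26.Net.cons (nat_lit 8) nA0_10 (H26.Net.cons (nat_lit 4) nA0_11 (H26.Net.cons (nat_lit 2) nA0_12 (H26.Net.cons (nat_lit 1) nA0_13 (H26.Net.nil))))))))))))))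
noncomputable def nA1_0 : ℕ := (nat_lit 0x330333000003030003333000300303303333000003333330000030303030)
noncomputable def nA1_1 : ℕ := (nat_lit 0xf0f0300000303030000030c0c0f0c030c0003030000030c000300000000)
noncomputable def nA1_2 : ℕ := (nat_lit 0xcf000c00f3000c00f000cc0003003c003000c000030003003000ff0000)
noncomputable def nA1_3 : ℕ := (nat_lit 0xf3fc0000ff330000cccf00000f000000cc0c0000303000000030)
noncomputable def nA1_4 : ℕ := (nat_lit 0xf0c000000000c0330030000000003ff0fc000000000030000000)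
noncomputable def nA1_5 : ℕ := (nat_lit 0x30f0030c0c00000000000000000033000000000000)
noncomputable def nA1_6 : ℕ := (nat_lit 0x30fcf30c0cc033300000000000)
noncomputable def nA1_7 : ℕ := (nat_lit 0xfc0c0cfff3c000000000000000033c0ffcf00000000)
noncomputable def nA1_8 : ℕ := (nat_lit 0xc3c00000000f003300c000000003ff0fc000000000000003030)
noncomputable def nA1_9 : ℕ := (nat_lit 0xf00c0000ff300000cf3000000f30000033f0000030000000ff00)
noncomputable def nA1_10 : ℕ := (nat_lit 0x3000c0003003f00ff00cf0003000000f300f000cf0033000000300030)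
noncomputable def nA1_11 : ℕ := (nat_lit 0x3000c000300000f03030f0c030f0c0c0c0f0c0c0f03000c0c030000000c)
noncomputable def nA1_12 : ℕ := (nat_lit 0x3333033030300330000330300030333000000003333000000030303033)
noncomputable def nA1_13 : ℕ := (nat_lit 0x400504145400041110155501050004040015554010000040000100150010)
noncomputable def nA1 : H26.Net := H26.Net.cons (nat_lit 2) nA1_0 (H26.Net.cons (nat_lit 4) nA1_1 (H26.Net.cons (nat_lit 8) nA1_2 (H26.Net.cons (nat_lit 16) nA1_3 (H26.Net.cons (nat_lit 32) nA1_4 (H26.Net.cons (nat_lit 64) nA1_5 (H26.Net.cons (nat_lit 128) nA1_6 (H26.Net.cons (nat_lit 64) nA1_7 (H26.Net.cons (nat_lit 32) nA1_8 (H26.Net.cons (nat_lit 16) nA1_9 (H26.Net.cons (nat_lit 8) nA1_10 (H26.Net.cons (nat_lit 4) nA1_11 (H26.Net.cons (nat_lit 2) nA1_12 (H26.Net.cons (nat_lit 1) nA1_13 (H26.Net.nil))))))))))))))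
noncomputable def nA2_0 : ℕ := (nat_lit 0x3030000333300300303030003030030300033000033030003000033300)
noncomputable def nA2_1 : ℕ := (nat_lit 0xc000f0c0c00030c03000c000c00000300000c030303030c0303000c0000)
noncomputable def nA2_2 : ℕ := (nat_lit 0x3c00c3000f000c00f300f3003000fc0030003300fc000300f3000f0000)
noncomputable def nA2_3 : ℕ := (nat_lit 0xc3f00000c0c300003f0f00000003000003c0000030f300000cc3)
noncomputable def nA2_4 : ℕ := (nat_lit 0xc0300000000c3c30c3000000000cf0330cf0000000000000000)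
noncomputable def nA2_5 : ℕ := (nat_lit 0xc3000f03fffc0000000000000000fc3f000000000000)
noncomputable def nA2_6 : ℕ := (nat_lit 0xc3030ff3fffcfcff000000000000)
noncomputable def nA2_7 : ℕ := (nat_lit 0xffc333fcff3f0000000000000000fffc3cfcf00c0003)
noncomputable def nA2_8 : ℕ := (nat_lit 0xf33f0000000000f333cf000000000cf0cc3000000000cf30c3c3)
noncomputable def nA2_9 : ℕ := (nat_lit 0xcf03000003c30000fcf3000000c00000c0c300000ccf000000f3)
noncomputable def nA2_10 : ℕ := (nat_lit 0xc00cf00fc000c00cf00cf003c0003000c00f0003f00f000c300cc003c)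
noncomputable def nA2_11 : ℕ := (nat_lit 0xc0f000c0c0f030c030c0c0f000f0f030f0f0c030303000c03030f000f0f)
noncomputable def nA2_12 : ℕ := (nat_lit 0x300303303000030033030303330303003033000333300300330333300033)
noncomputable def nA2_13 : ℕ := (nat_lit 0x11154145510045010455415141544511014015014014100150114545440)
noncomputable def nA2 : H26.Net := H26.Net.cons (nat_lit 2) nA2_0 (H26.Net.cons (nat_lit 4) nA2_1 (H26.Net.cons (nat_lit 8) nA2_2 (H26.Net.cons (nat_lit 16) nA2_3 (H26.Net.cons (nat_lit 32) nA2_4 (H26.Net.cons (nat_lit 64) nA2_5 (H26.Net.cons (nat_lit 128) nA2_6 (H26.Net.cons (nat_lit 64) nA2_7 (H26.Net.cons (nat_lit 32) nA2_8 (H26.Net.cons (nat_lit 16) nA2_9 (H26.Net.cons (nat_lit 8) nA2_10 (H26.Net.cons (nat_lit 4) nA2_11 (H26.Net.cons (nat_lit 2) nA2_12 (H26.Net.cons (nat_lit 1) nA2_13 (H26.Net.nil))))))))))))))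
noncomputable def nA3_0 : ℕ := (nat_lit 0x300330003300033003333303333030303333000003030333030000030000)
noncomputable def nA3_1 : ℕ := (nat_lit 0x30303030c000f030300000f030c030003000c000000000c000f0f000000)
noncomputable def nA3_2 : ℕ := (nat_lit 0xc00330000003c0003000000300000000f00f3003300c3000c00300000)
noncomputable def nA3_3 : ℕ := (nat_lit 0x3000000300c0000ff300000c30300003f000000c300000000c0)
noncomputable def nA3_4 : ℕ := (nat_lit 0xc3c000000000c3c0003300000000fcc3c0c00000000030030000)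
noncomputable def nA3_5 : ℕ := (nat_lit 0xf3000c03cff300000000000000000f00000000000000)
noncomputable def nA3_6 : ℕ := (nat_lit 0x30c03c0fffff0f0cc30030000000)
noncomputable def nA3_7 : ℕ := (nat_lit 0xcfcc3fc333f00000000000000003ccfcf3fcf0000c0)
noncomputable def nA3_8 : ℕ := (nat_lit 0x330000000000c3fcf3f0000000003c3f300000000000fcc3fcc0)
noncomputable def nA3_9 : ℕ := (nat_lit 0xc00000f0300003cff00000cc30000300f0000c0cc0000cc3c)
noncomputable def nA3_10 : ℕ := (nat_lit 0x300fc00cc00f3000f00cf00cf00cc00cc003c00fc003c000000f30003)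
noncomputable def nA3_11 : ℕ := (nat_lit 0x30300030c030c000000000f000f03000f000c0300030f0f0c0f0f030c00)
noncomputable def nA3_12 : ℕ := (nat_lit 0x300330033300033303333303333033333333000303030333033000030000)
noncomputable def nA3_13 : ℕ := (nat_lit 0x550415500045444400550550154045140551141440501501414411111100)
noncomputable def nA3 : H26.Net := H26.Net.cons (nat_lit 2) nA3_0 (H26.Net.cons (nat_lit 4) nA3_1 (H26.Net.cons (nat_lit 8) nA3_2 (H26.Net.cons (nat_lit 16) nA3_3 (H26.Net.cons (nat_lit 32) nA3_4 (H26.Net.cons (nat_lit 64) nA3_5 (H26.Net.cons (nat_lit 128) nA3_6 (H26.Net.cons (nat_lit 64) nA3_7 (H26.Net.cons (nat_lit 32) nA3_8 (H26.Net.cons (nat_lit 16) nA3_9 (H26.Net.cons (nat_lit 8) nA3_10 (H26.Net.cons (nat_lit 4) nA3_11 (H26.Net.cons (nat_lit 2) nA3_12 (H26.Net.cons (nat_lit 1) nA3_13 (H26.Net.nil))))))))))))))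
noncomputable def nA4_0 : ℕ := (nat_lit 0x330030303000330333030003303333330030330300303300000330330000)
noncomputable def nA4_1 : ℕ := (nat_lit 0xc0f0000000f030f0000000000000c0c0c0f0f0c030003000f0f03030c00)
noncomputable def nA4_2 : ℕ := (nat_lit 0x3000c300cc00fc000c00cc000000c3000c00c000cc00c3000c0000)
noncomputable def nA4_3 : ℕ := (nat_lit 0xf30000003cf00000fc0f0000cff300000cff000000cc00000300)
noncomputable def nA4_4 : ℕ := (nat_lit 0x33cc00000000c3c30ccf00000000ff3c3cc00000000000c00000)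
noncomputable def nA4_5 : ℕ := (nat_lit 0xc30030ffcf00000000000000000cf0000000000000)
noncomputable def nA4_6 : ℕ := (nat_lit 0xf03f0ffffcff300c000000000)
noncomputable def nA4_7 : ℕ := (nat_lit 0x3f3c00ccff3300000000000000000f3ffcf3fc030300)
noncomputable def nA4_8 : ℕ := (nat_lit 0xcc0300000000c3f333ff0000000003f03300000000003f003fc0)
noncomputable def nA4_9 : ℕ := (nat_lit 0xf330000ccf30000fccf00000c0300000ff000003f0f00003cfc)
noncomputable def nA4_10 : ℕ := (nat_lit 0x3300cc000000fc00fc003f003000330033003c00ff00f3000c003000c3)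
noncomputable def nA4_11 : ℕ := (nat_lit 0xc0f030f0f000c0300030c0f0c0f0c0c0c0000000c03030f000003000c0f)
noncomputable def nA4_12 : ℕ := (nat_lit 0x3303030333003000303330030000003303003033030033333003003333)
noncomputable def nA4_13 : ℕ := (nat_lit 0x455101445055545451144044001514445114444101150544541004040400)
noncomputable def nA4 : H26.Net := H26.Net.cons (nat_lit 2) nA4_0 (H26.Net.cons (nat_lit 4) nA4_1 (H26.Net.cons (nat_lit 8) nA4_2 (H26.Net.cons (nat_lit 16) nA4_3 (H26.Net.cons (nat_lit 32) nA4_4 (H26.Net.cons (nat_lit 64) nA4_5 (H26.Net.cons (nat_lit 128) nA4_6 (H26.Net.cons (nat_lit 64) nA4_7 (H26.Net.cons (nat_lit 32) nA4_8 (H26.Net.cons (nat_lit 16) nA4_9 (H26.Net.cons (nat_lit 8) nA4_10 (H26.Net.cons (nat_lit 4) nA4_11 (H26.Net.cons (nat_lit 2) nA4_12 (H26.Net.cons (nat_lit 1) nA4_13 (H26.Net.nil))))))))))))))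
noncomputable def nA5_0 : ℕ := (nat_lit 0x30030000000000333303303330030030333030333033333003330033000)
noncomputable def nA5_1 : ℕ := (nat_lit 0x3000300030c0c030300030f0c0c0c030f0c0f0303000300000c03030f00)
noncomputable def nA5_2 : ℕ := (nat_lit 0xf0003f000f00fc0030000c00cf003300ff00fc00f00033000000f30000)
noncomputable def nA5_3 : ℕ := (nat_lit 0xc3c3000033cc0000f303000033f00000c0c00000c33300000f03)
noncomputable def nA5_4 : ℕ := (nat_lit 0xf000000000000c3c03f00000000f3300cc000000000f00c0000)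
noncomputable def nA5_5 : ℕ := (nat_lit 0xc30f0ccf033c00000000000000000003000000000000)
noncomputable def nA5_6 : ℕ := (nat_lit 0xcc0fffcf333c0cc30330f0000000)
noncomputable def nA5_7 : ℕ := (nat_lit 0x3c000ff3ffff0000000000000000ff0c03cc00300c03)
noncomputable def nA5_8 : ℕ := (nat_lit 0xf00f000000000cc3cf3000000000fc0cf00300000000f330f0c0)
noncomputable def nA5_9 : ℕ := (nat_lit 0x3ccc0000c3cc0000fcfc0000c00c00003ccc0000cc3c00000cff)
noncomputable def nA5_10 : ℕ := (nat_lit 0xff00c0000000ff00cf000000c300c000f000f000f000c0000300f0000f)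
noncomputable def nA5_11 : ℕ := (nat_lit 0xc0c00000c03030c0f000c0f0c0f030c0f030f0c0c000f0f00030c0c0300)
noncomputable def nA5_12 : ℕ := (nat_lit 0x303300333333333000030030000003303000303000300003030003300033)
noncomputable def nA5_13 : ℕ := (nat_lit 0x514445044144501555501055540454514414514401445005104010101000)
noncomputable def nA5 : H26.Net := H26.Net.cons (nat_lit 2) nA5_0 (H26.Net.cons (nat_lit 4) nA5_1 (H26.Net.cons (nat_lit 8) nA5_2 (H26.Net.cons (nat_lit 16) nA5_3 (H26.Net.cons (nat_lit 32) nA5_4 (H26.Net.cons (nat_lit 64) nA5_5 (H26.Net.cons (nat_lit 128) nA5_6 (H26.Net.cons (nat_lit 64) nA5_7 (H26.Net.cons (nat_lit 32) nA5_8 (H26.Net.cons (nat_lit 16) nA5_9 (H26.Net.cons (nat_lit 8) nA5_10 (H26.Net.cons (nat_lit 4) nA5_11 (H26.Net.cons (nat_lit 2) nA5_12 (H26.Net.cons (nat_lit 1) nA5_13 (H26.Net.nil))))))))))))))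
noncomputable def nA6_0 : ℕ := (nat_lit 0x555555555555555555555555555555555555555555555555555555555555)
noncomputable def nA6 : H26.Net := H26.Net.cons (nat_lit 1) nA6_0 (H26.Net.nil)
noncomputable def TA : H26.Tab := ⟨(nat_lit 240), [nA0, nA1, nA2, nA3, nA4, nA5, nA6]⟩
noncomputable def taA : List ℕ := [nat_lit 0, nat_lit 0, nat_lit 1, nat_lit 1, nat_lit 1, nat_lit 1, nat_lit 1, nat_lit 1, nat_lit 1, nat_lit 0, nat_lit 1, nat_lit 1, nat_lit 0, nat_lit 1, nat_lit 1, nat_lit 1, nat_lit 0]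
noncomputable def cpA : List (List ℕ × List ℕ × ℕ × ℕ) := [([nat_lit 5], [nat_lit 2], (nat_lit 1), (nat_lit 1))]
noncomputable def nB0_0 : ℕ := (nat_lit 0x14510401000)
noncomputable def nB0_1 : ℕ := (nat_lit 0x10000010)
noncomputable def nB0_2 : ℕ := (nat_lit 0x1050f060000)
noncomputable def nB0_3 : ℕ := (nat_lit 0x860000)
noncomputable def nB0_4 : ℕ := (nat_lit 0xe958)
noncomputable def nB0_5 : ℕ := (nat_lit 0x958)
noncomputable def nB0_6 : ℕ := (nat_lit 0x1f58)
noncomputable def nB0_7 : ℕ := (nat_lit 0x400860001)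
noncomputable def nB0_8 : ℕ := (nat_lit 0xa09010806)
noncomputable def nB0_9 : ℕ := (nat_lit 0x22313310223)
noncomputable def nB0_10 : ℕ := (nat_lit 0x1044010045)
noncomputable def nB0 : H26.Net := H26.Net.cons (nat_lit 1) nB0_0 (H26.Net.cons (nat_lit 2) nB0_1 (H26.Net.cons (nat_lit 4) nB0_2 (H26.Net.cons (nat_lit 8) nB0_3 (H26.Net.cons (nat_lit 16) nB0_4 (H26.Net.cons (nat_lit 32) nB0_5 (H26.Net.cons (nat_lit 16) nB0_6 (H26.Net.cons (nat_lit 8) nB0_7 (H26.Net.cons (nat_lit 4) nB0_8 (H26.Net.cons (nat_lit 2) nB0_9 (H26.Net.cons (nat_lit 1) nB0_10 (H26.Net.nil)))))))))))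
noncomputable def nB1_0 : ℕ := (nat_lit 0x50414440004)
noncomputable def nB1_1 : ℕ := (nat_lit 0x11020310000)
noncomputable def nB1_2 : ℕ := (nat_lit 0x10b0f000300)
noncomputable def nB1_3 : ℕ := (nat_lit 0x400260000)
noncomputable def nB1_4 : ℕ := (nat_lit 0x604f)
noncomputable def nB1_5 : ℕ := (nat_lit 0x4f)
noncomputable def nB1_6 : ℕ := (nat_lit 0xf4f)
noncomputable def nB1_7 : ℕ := (nat_lit 0x16002c0010)
noncomputable def nB1_8 : ℕ := (nat_lit 0x40c0d090d)
noncomputable def nB1_9 : ℕ := (nat_lit 0x21001023023)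
noncomputable def nB1_10 : ℕ := (nat_lit 0x4101000450)
noncomputable def nB1 : H26.Net := H26.Net.cons (nat_lit 1) nB1_0 (H26.Net.cons (nat_lit 2) nB1_1 (H26.Net.cons (nat_lit 4) nB1_2 (H26.Net.cons (nat_lit 8) nB1_3 (H26.Net.cons (nat_lit 16) nB1_4 (H26.Net.cons (nat_lit 32) nB1_5 (H26.Net.cons (nat_lit 16) nB1_6 (H26.Net.cons (nat_lit 8) nB1_7 (H26.Net.cons (nat_lit 4) nB1_8 (H26.Net.cons (nat_lit 2) nB1_9 (H26.Net.cons (nat_lit 1) nB1_10 (H26.Net.nil)))))))))))
noncomputable def nB2_0 : ℕ := (nat_lit 0x505500)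
noncomputable def nB2_1 : ℕ := (nat_lit 0x300202200)
noncomputable def nB2_2 : ℕ := (nat_lit 0x707040000)
noncomputable def nB2_3 : ℕ := (nat_lit 0x300080000)
noncomputable def nB2_4 : ℕ := (nat_lit 0x433c)
noncomputable def nB2_5 : ℕ := (nat_lit 0x33c)
noncomputable def nB2_6 : ℕ := (nat_lit 0xbfc)
noncomputable def nB2_7 : ℕ := (nat_lit 0x3003b00bf)
noncomputable def nB2_8 : ℕ := (nat_lit 0x4040f0808)
noncomputable def nB2_9 : ℕ := (nat_lit 0x300202200)
noncomputable def nB2_10 : ℕ := (nat_lit 0x505500)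
noncomputable def nB2 : H26.Net := H26.Net.cons (nat_lit 1) nB2_0 (H26.Net.cons (nat_lit 2) nB2_1 (H26.Net.cons (nat_lit 4) nB2_2 (H26.Net.cons (nat_lit 8) nB2_3 (H26.Net.cons (nat_lit 16) nB2_4 (H26.Net.cons (nat_lit 32) nB2_5 (H26.Net.cons (nat_lit 16) nB2_6 (H26.Net.cons (nat_lit 8) nB2_7 (H26.Net.cons (nat_lit 4) nB2_8 (H26.Net.cons (nat_lit 2) nB2_9 (H26.Net.cons (nat_lit 1) nB2_10 (H26.Net.nil)))))))))))
noncomputable def nB3_0 : ℕ := (nat_lit 0x15000000)
noncomputable def nB3_1 : ℕ := (nat_lit 0x22131130)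
noncomputable def nB3_2 : ℕ := (nat_lit 0x80a0000)
noncomputable def nB3_3 : ℕ := (nat_lit 0xb009a0000)
noncomputable def nB3_4 : ℕ := (nat_lit 0x65fb)
noncomputable def nB3_5 : ℕ := (nat_lit 0x15fb)
noncomputable def nB3_6 : ℕ := (nat_lit 0x1efb)
noncomputable def nB3_7 : ℕ := (nat_lit 0x1a008b0004)
noncomputable def nB3_8 : ℕ := (nat_lit 0x1080b0103)
noncomputable def nB3_9 : ℕ := (nat_lit 0x22131130)
noncomputable def nB3_10 : ℕ := (nat_lit 0x15000000)
noncomputable def nB3 : H26.Net := H26.Net.cons (nat_lit 1) nB3_0 (H26.Net.cons (nat_lit 2) nB3_1 (H26.Net.cons (nat_lit 4) nB3_2 (H26.Net.cons (nat_lit 8) nB3_3 (H26.Net.cons (nat_lit 16) nB3_4 (H26.Net.cons (nat_lit 32) nB3_5 (H26.Net.cons (nat_lit 16) nB3_6 (H26.Net.cons (nat_lit 8) nB3_7 (H26.Net.cons (nat_lit 4) nB3_8 (H26.Net.cons (nat_lit 2) nB3_9 (H26.Net.cons (nat_lit 1) nB3_10 (H26.Net.nil)))))))))))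
noncomputable def nB4_0 : ℕ := (nat_lit 0x4050005000)
noncomputable def nB4_1 : ℕ := (nat_lit 0x11011011010)
noncomputable def nB4_2 : ℕ := (nat_lit 0x10109000000)
noncomputable def nB4_3 : ℕ := (nat_lit 0x900)
noncomputable def nB4_4 : ℕ := (nat_lit 0x900)
noncomputable def nB4_5 : ℕ := (nat_lit 0x1900)
noncomputable def nB4_6 : ℕ := (nat_lit 0x1000e60000)
noncomputable def nB4_7 : ℕ := (nat_lit 0x10f09000e06)
noncomputable def nB4_8 : ℕ := (nat_lit 0x13211011013)
noncomputable def nB4_9 : ℕ := (nat_lit 0x4050005015)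
noncomputable def nB4 : H26.Net := H26.Net.cons (nat_lit 1) nB4_0 (H26.Net.cons (nat_lit 2) nB4_1 (H26.Net.cons (nat_lit 4) nB4_2 (H26.Net.cons (nat_lit 16) nB4_3 (H26.Net.cons (nat_lit 32) nB4_4 (H26.Net.cons (nat_lit 16) nB4_5 (H26.Net.cons (nat_lit 8) nB4_6 (H26.Net.cons (nat_lit 4) nB4_7 (H26.Net.cons (nat_lit 2) nB4_8 (H26.Net.cons (nat_lit 1) nB4_9 (H26.Net.nil))))))))))
noncomputable def nB5_0 : ℕ := (nat_lit 0x10101000540)
noncomputable def nB5_1 : ℕ := (nat_lit 0x11000020220)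
noncomputable def nB5_2 : ℕ := (nat_lit 0x505030202)
noncomputable def nB5_3 : ℕ := (nat_lit 0x880080)
noncomputable def nB5_4 : ℕ := (nat_lit 0xc4a5)
noncomputable def nB5_5 : ℕ := (nat_lit 0x4a5)
noncomputable def nB5_6 : ℕ := (nat_lit 0x1ef7)
noncomputable def nB5_7 : ℕ := (nat_lit 0x20088002d)
noncomputable def nB5_8 : ℕ := (nat_lit 0x5050b0a0a)
noncomputable def nB5_9 : ℕ := (nat_lit 0x11001021220)
noncomputable def nB5_10 : ℕ := (nat_lit 0x10101000540)
noncomputable def nB5 : H26.Net := H26.Net.cons (nat_lit 1) nB5_0 (H26.Net.cons (nat_lit 2) nB5_1 (H26.Net.cons (nat_lit 4) nB5_2 (H26.Net.cons (nat_lit 8) nB5_3 (H26.Net.cons (nat_lit 16) nB5_4 (H26.Net.cons (nat_lit 32) nB5_5 (H26.Net.cons (nat_lit 16) nB5_6 (H26.Net.cons (nat_lit 8) nB5_7 (H26.Net.cons (nat_lit 4) nB5_8 (H26.Net.cons (nat_lit 2) nB5_9 (H26.Net.cons (nat_lit 1) nB5_10 (H26.Net.nil)))))))))))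
noncomputable def nB6_0 : ℕ := (nat_lit 0x10410410410)
noncomputable def nB6_1 : ℕ := (nat_lit 0x30120120120)
noncomputable def nB6_2 : ℕ := (nat_lit 0xc00080400)
noncomputable def nB6_3 : ℕ := (nat_lit 0xc00000)
noncomputable def nB6_4 : ℕ := (nat_lit 0x8040)
noncomputable def nB6_5 : ℕ := (nat_lit 0x40)
noncomputable def nB6_6 : ℕ := (nat_lit 0x40)
noncomputable def nB6_7 : ℕ := (nat_lit 0x800c00040)
noncomputable def nB6_8 : ℕ := (nat_lit 0x10c080c0408)
noncomputable def nB6_9 : ℕ := (nat_lit 0x31321321321)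
noncomputable def nB6_10 : ℕ := (nat_lit 0x41041041041)
noncomputable def nB6 : H26.Net := H26.Net.cons (nat_lit 1) nB6_0 (H26.Net.cons (nat_lit 2) nB6_1 (H26.Net.cons (nat_lit 4) nB6_2 (H26.Net.cons (nat_lit 8) nB6_3 (H26.Net.cons (nat_lit 16) nB6_4 (H26.Net.cons (nat_lit 32) nB6_5 (H26.Net.cons (nat_lit 16) nB6_6 (H26.Net.cons (nat_lit 8) nB6_7 (H26.Net.cons (nat_lit 4) nB6_8 (H26.Net.cons (nat_lit 2) nB6_9 (H26.Net.cons (nat_lit 1) nB6_10 (H26.Net.nil)))))))))))
noncomputable def TB : H26.Tab := ⟨(nat_lit 45), [nB0, nB1, nB2, nB3, nB4, nB5, nB6]⟩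
noncomputable def taB : List ℕ := [nat_lit 1, nat_lit 1, nat_lit 0, nat_lit 0, nat_lit 0, nat_lit 0, nat_lit 0, nat_lit 0, nat_lit 2, nat_lit 0, nat_lit 0, nat_lit 0, nat_lit 0, nat_lit 2, nat_lit 0, nat_lit 0, nat_lit 0]
noncomputable def cpB : List (List ℕ × List ℕ × ℕ × ℕ) := [([nat_lit 1], [nat_lit 0, nat_lit 5, nat_lit 4], (nat_lit 1), (nat_lit 1))]

theorem wfA_0 : nA0.wf (nat_lit 240) = true := by decide +kernel
theorem wfA_1 : nA1.wf (nat_lit 240) = true := by decide +kernel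
theorem wfA_2 : nA2.wf (nat_lit 240) = true := by decide +kernel
theorem wfA_3 : nA3.wf (nat_lit 240) = true := by decide +kernel
theorem wfA_4 : nA4.wf (nat_lit 240) = true := by decide +kernel
theorem wfA_5 : nA5.wf (nat_lit 240) = true := by decide +kernel
theorem wfA_6 : nA6.wf (nat_lit 240) = true := by decide +kernel
theorem lgcA : TA.n ≤ 2 ^ (nat_lit 8) := by decide +kernel
theorem prA_0 : TA.prsChkJ (nat_lit 8) (nat_lit 0) (covPairs H16.A7.Rl 6 2 taA cpA) = true := by decide +kernel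
theorem prA_1 : TA.prsChkJ (nat_lit 8) (nat_lit 1) (covPairs H16.A7.Rl 6 2 taA cpA) = true := by decide +kernel
theorem prA_2 : TA.prsChkJ (nat_lit 8) (nat_lit 2) (covPairs H16.A7.Rl 6 2 taA cpA) = true := by decide +kernel
theorem prA_3 : TA.prsChkJ (nat_lit 8) (nat_lit 3) (covPairs H16.A7.Rl 6 2 taA cpA) = true := by decide +kernel
theorem prA_4 : TA.prsChkJ (nat_lit 8) (nat_lit 4) (covPairs H16.A7.Rl 6 2 taA cpA) = true := by decide +kernel
theorem prA_5 : TA.prsChkJ (nat_lit 8) (nat_lit 5) (covPairs H16.A7.Rl 6 2 taA cpA) = true := by decide +kernel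
theorem prA_6 : TA.prsChkJ (nat_lit 8) (nat_lit 6) (covPairs H16.A7.Rl 6 2 taA cpA) = true := by decide +kernel
theorem prA_7 : TA.prsChkJ (nat_lit 8) (nat_lit 7) (covPairs H16.A7.Rl 6 2 taA cpA) = true := by decide +kernel
theorem neA : ∀ q < 2 + 1, 1 < q → q ∣ 2 → ∃ b ∈ [0, TA.n - 1], pullP TA [6] (2 / q) (Nat.shiftLeft 1 b) ≠ Nat.shiftLeft 1 b := by decide +kernel
theorem kcA : allL (ltAll 6) H16.A7.Rl = true ∧ H16.A7.Rl.length = taA.length ∧ 1 < 2 ∧
    (cpA.map fun y => y.2.2.1 * y.2.2.2).sum % 2 = 1 ∧ ∀ y ∈ cpA, ltAll 6 y.1 = 0 ∧ ltAll 6 y.2.1 = 0 := by decide +kernel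
theorem wfB_0 : nB0.wf (nat_lit 45) = true := by decide +kernel
theorem wfB_1 : nB1.wf (nat_lit 45) = true := by decide +kernel
theorem wfB_2 : nB2.wf (nat_lit 45) = true := by decide +kernel
theorem wfB_3 : nB3.wf (nat_lit 45) = true := by decide +kernel
theorem wfB_4 : nB4.wf (nat_lit 45) = true := by decide +kernel
theorem wfB_5 : nB5.wf (nat_lit 45) = true := by decide +kernel
theorem wfB_6 : nB6.wf (nat_lit 45) = true := by decide +kernel
theorem lgcB : TB.n ≤ 2 ^ (nat_lit 6) := by decide +kernel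
theorem prB_0 : TB.prsChkJ (nat_lit 6) (nat_lit 0) (covPairs H16.A7.Rl 6 3 taB cpB) = true := by decide +kernel
theorem prB_1 : TB.prsChkJ (nat_lit 6) (nat_lit 1) (covPairs H16.A7.Rl 6 3 taB cpB) = true := by decide +kernel
theorem prB_2 : TB.prsChkJ (nat_lit 6) (nat_lit 2) (covPairs H16.A7.Rl 6 3 taB cpB) = true := by decide +kernel
theorem prB_3 : TB.prsChkJ (nat_lit 6) (nat_lit 3) (covPairs H16.A7.Rl 6 3 taB cpB) = true := by decide +kernel
theorem prB_4 : TB.prsChkJ (nat_lit 6) (nat_lit 4) (covPairs H16.A7.Rl 6 3 taB cpB) = true := by decide +kernel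
theorem prB_5 : TB.prsChkJ (nat_lit 6) (nat_lit 5) (covPairs H16.A7.Rl 6 3 taB cpB) = true := by decide +kernel
theorem neB : ∀ q < 3 + 1, 1 < q → q ∣ 3 → ∃ b ∈ [0, TB.n - 1], pullP TB [6] (3 / q) (Nat.shiftLeft 1 b) ≠ Nat.shiftLeft 1 b := by decide +kernel
theorem kcB : allL (ltAll 6) H16.A7.Rl = true ∧ H16.A7.Rl.length = taB.length ∧ 1 < 3 ∧
    (cpB.map fun y => y.2.2.1 * y.2.2.2).sum % 3 = 1 ∧ ∀ y ∈ cpB, ltAll 6 y.1 = 0 ∧ ltAll 6 y.2.1 = 0 := by decide +kernel

theorem wfA : TA.WF := (all_cons wfA_0 (all_cons wfA_1 (all_cons wfA_2 (all_cons wfA_3 (all_cons wfA_4 (all_cons wfA_5 (all_cons wfA_6 all_nil)))))))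
theorem covA : HasCov (gen H16.A7.g 6) (Multiplicative (ZMod 2)) :=
  have := H16.A7.simple
  have ⟨σ, h1, h2, _⟩ := cover_cyc H16.A7.bound H16.A7.rels H16.A7.card (prs_S wfA lgcA (all_succ (all_succ (all_succ (all_succ (all_succ (all_succ (all_succ (all_succ all_zero prA_0) prA_1) prA_2) prA_3) prA_4) prA_5) prA_6) prA_7)) (pow_ne_S wfA neA) kcA
  ⟨_, _, σ, h1, h2⟩
theorem wfB : TB.WF := (all_cons wfB_0 (all_cons wfB_1 (all_cons wfB_2 (all_cons wfB_3 (all_cons wfB_4 (all_cons wfB_5 (all_cons wfB_6 all_nil)))))))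
theorem covB : HasCov (gen H16.A7.g 6) (Multiplicative (ZMod 3)) :=
  have := H16.A7.simple
  have ⟨σ, h1, h2, _⟩ := cover_cyc H16.A7.bound H16.A7.rels H16.A7.card (prs_S wfB lgcB (all_succ (all_succ (all_succ (all_succ (all_succ (all_succ all_zero prB_0) prB_1) prB_2) prB_3) prB_4) prB_5)) (pow_ne_S wfB neB) kcB
  ⟨_, _, σ, h1, h2⟩
theorem schur : Cfsg.HasCyclicSchurMultiplier (alternatingGroup (Fin 7)) (2 * 3) :=
  A7.eq ▸ schur_cyc2 covA covB ScA7.ker_le (by norm_num)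

end H16.CvA7
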