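import Cfsg.Agent.H16.Sc.A6
import Cfsg.Agent.H16.Sch3

/-! Generated by tools/h16 (computation kit). -/

set_option maxRecDepth 100000
set_option maxHeartbeats 0

namespace H16.CvA6

open H26 (jn)
open H26 (jn)
noncomputable def nA0_0 : ℕ := (nat_lit 0x330033030033033000)
noncomputable def nA0_1 : ℕ := (nat_lit 0xc030c030c0c0c0000)
noncomputable def nA0_2 : ℕ := (nat_lit 0xcc003300c300fc0000)
noncomputable def nA0_3 : ℕ := (nat_lit 0xcc0f0000c000)
noncomputable def nA0_4 : ℕ := (nat_lit 0xc03fcc00)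
noncomputable def nA0_5 : ℕ := (nat_lit 0xcc00)
noncomputable def nA0_6 : ℕ := (nat_lit 0xcc00)
noncomputable def nA0_7 : ℕ := (nat_lit 0xcf030000fcc0)
noncomputable def nA0_8 : ℕ := (nat_lit 0xcf00c300cf00fc0000)
noncomputable def nA0_9 : ℕ := (nat_lit 0xc030f03030c000303)
noncomputable def nA0_10 : ℕ := (nat_lit 0x3030003333300033003)
noncomputable def nA0_11 : ℕ := (nat_lit 0x10100000000)
noncomputable def nA0 : H26.Net := H26.Net.cons (nat_lit 2) nA0_0 (H26.Net.cons (nat_lit 4) nA0_1 (H26.Net.cons (nat_lit 8) nA0_2 (H26.Net.cons (nat_lit 16) nA0_3 (H26.Net.cons (nat_lit 32) nA0_4 (H26.Net.cons (nat_lit 64) nA0_5 (H26.Net.cons (nat_lit 32) nA0_6 (H26.Net.cons (nat_lit 16) nA0_7 (H26.Net.cons (nat_lit 8) nA0_8 (H26.Net.cons (nat_lit 4) nA0_9 (H26.Net.cons (nat_lit 2) nA0_10 (H26.Net.cons (nat_lit 1) nA0_11 (H26.Net.nil))))))))))))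
noncomputable def nA1_0 : ℕ := (nat_lit 0x3030030303300030)
noncomputable def nA1_1 : ℕ := (nat_lit 0xc0f000f0000030c0000)
noncomputable def nA1_2 : ℕ := (nat_lit 0xc0030003f0000)
noncomputable def nA1_3 : ℕ := (nat_lit 0xc03c00000000)
noncomputable def nA1_4 : ℕ := (nat_lit 0xc0c3003c)
noncomputable def nA1_5 : ℕ := (nat_lit 0x3c)
noncomputable def nA1_6 : ℕ := (nat_lit 0x303c)
noncomputable def nA1_7 : ℕ := (nat_lit 0xccfc00000f30)
noncomputable def nA1_8 : ℕ := (nat_lit 0xc0003f00fc00ff0000)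
noncomputable def nA1_9 : ℕ := (nat_lit 0xc0f000f0003030f0c0c)
noncomputable def nA1_10 : ℕ := (nat_lit 0x3303030330300000333)
noncomputable def nA1_11 : ℕ := (nat_lit 0x10010000000000)
noncomputable def nA1 : H26.Net := H26.Net.cons (nat_lit 2) nA1_0 (H26.Net.cons (nat_lit 4) nA1_1 (H26.Net.cons (nat_lit 8) nA1_2 (H26.Net.cons (nat_lit 16) nA1_3 (H26.Net.cons (nat_lit 32) nA1_4 (H26.Net.cons (nat_lit 64) nA1_5 (H26.Net.cons (nat_lit 32) nA1_6 (H26.Net.cons (nat_lit 16) nA1_7 (H26.Net.cons (nat_lit 8) nA1_8 (H26.Net.cons (nat_lit 4) nA1_9 (H26.Net.cons (nat_lit 2) nA1_10 (H26.Net.cons (nat_lit 1) nA1_11 (H26.Net.nil))))))))))))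
noncomputable def nA2_0 : ℕ := (nat_lit 0x3333033033330000000)
noncomputable def nA2_1 : ℕ := (nat_lit 0xc03000f000c03000000)
noncomputable def nA2_2 : ℕ := (nat_lit 0xc00f000fc000c0000)
noncomputable def nA2_3 : ℕ := (nat_lit 0xcfcf00000000)
noncomputable def nA2_4 : ℕ := (nat_lit 0x33cf0c03)
noncomputable def nA2_5 : ℕ := (nat_lit 0xc03)
noncomputable def nA2_6 : ℕ := (nat_lit 0xcc03)
noncomputable def nA2_7 : ℕ := (nat_lit 0x3c0f0000cf30)
noncomputable def nA2_8 : ℕ := (nat_lit 0xfc000f000300c3003c)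
noncomputable def nA2_9 : ℕ := (nat_lit 0x30c0c0c0c000c030f0f)
noncomputable def nA2_10 : ℕ := (nat_lit 0x30000303300033033033)
noncomputable def nA2_11 : ℕ := (nat_lit 0x51001550441044551440)
noncomputable def nA2 : H26.Net := H26.Net.cons (nat_lit 2) nA2_0 (H26.Net.cons (nat_lit 4) nA2_1 (H26.Net.cons (nat_lit 8) nA2_2 (H26.Net.cons (nat_lit 16) nA2_3 (H26.Net.cons (nat_lit 32) nA2_4 (H26.Net.cons (nat_lit 64) nA2_5 (H26.Net.cons (nat_lit 32) nA2_6 (H26.Net.cons (nat_lit 16) nA2_7 (H26.Net.cons (nat_lit 8) nA2_8 (H26.Net.cons (nat_lit 4) nA2_9 (H26.Net.cons (nat_lit 2) nA2_10 (H26.Net.cons (nat_lit 1) nA2_11 (H26.Net.nil))))))))))))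
noncomputable def nA3_0 : ℕ := (nat_lit 0x3033003033300003330)
noncomputable def nA3_1 : ℕ := (nat_lit 0x3000003000c00030c00)
noncomputable def nA3_2 : ℕ := (nat_lit 0xc000ff0000000f0000)
noncomputable def nA3_3 : ℕ := (nat_lit 0xfff300000c00)
noncomputable def nA3_4 : ℕ := (nat_lit 0xfcffcc33)
noncomputable def nA3_5 : ℕ := (nat_lit 0xcc33)
noncomputable def nA3_6 : ℕ := (nat_lit 0xcf33)
noncomputable def nA3_7 : ℕ := (nat_lit 0xcc3f000003f0)
noncomputable def nA3_8 : ℕ := (nat_lit 0xfc000000ff000f00ff)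
noncomputable def nA3_9 : ℕ := (nat_lit 0x3030f000f0c0f030c0f)
noncomputable def nA3_10 : ℕ := (nat_lit 0x30300330300033330003)
noncomputable def nA3_11 : ℕ := (nat_lit 0x15541414504140154100)
noncomputable def nA3 : H26.Net := H26.Net.cons (nat_lit 2) nA3_0 (H26.Net.cons (nat_lit 4) nA3_1 (H26.Net.cons (nat_lit 8) nA3_2 (H26.Net.cons (nat_lit 16) nA3_3 (H26.Net.cons (nat_lit 32) nA3_4 (H26.Net.cons (nat_lit 64) nA3_5 (H26.Net.cons (nat_lit 32) nA3_6 (H26.Net.cons (nat_lit 16) nA3_7 (H26.Net.cons (nat_lit 8) nA3_8 (H26.Net.cons (nat_lit 4) nA3_9 (H26.Net.cons (nat_lit 2) nA3_10 (H26.Net.cons (nat_lit 1) nA3_11 (H26.Net.nil))))))))))))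
noncomputable def nA4_0 : ℕ := (nat_lit 0x33000333000000000)
noncomputable def nA4_1 : ℕ := (nat_lit 0xc03030c000000000000)
noncomputable def nA4_2 : ℕ := (nat_lit 0x3000cc000c00030000)
noncomputable def nA4_3 : ℕ := (nat_lit 0xc03c00003000)
noncomputable def nA4_4 : ℕ := (nat_lit 0x3c3f300c)
noncomputable def nA4_5 : ℕ := (nat_lit 0x300c)
noncomputable def nA4_6 : ℕ := (nat_lit 0xf00c)
noncomputable def nA4_7 : ℕ := (nat_lit 0x33c00000c3fc)
noncomputable def nA4_8 : ℕ := (nat_lit 0xf3000000cc00c0003f)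
noncomputable def nA4_9 : ℕ := (nat_lit 0xc0303030f0003000c00)
noncomputable def nA4_10 : ℕ := (nat_lit 0x33300333000333333333)
noncomputable def nA4_11 : ℕ := (nat_lit 0x40514545055450410400)
noncomputable def nA4 : H26.Net := H26.Net.cons (nat_lit 2) nA4_0 (H26.Net.cons (nat_lit 4) nA4_1 (H26.Net.cons (nat_lit 8) nA4_2 (H26.Net.cons (nat_lit 16) nA4_3 (H26.Net.cons (nat_lit 32) nA4_4 (H26.Net.cons (nat_lit 64) nA4_5 (H26.Net.cons (nat_lit 32) nA4_6 (H26.Net.cons (nat_lit 16) nA4_7 (H26.Net.cons (nat_lit 8) nA4_8 (H26.Net.cons (nat_lit 4) nA4_9 (H26.Net.cons (nat_lit 2) nA4_10 (H26.Net.cons (nat_lit 1) nA4_11 (H26.Net.nil))))))))))))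
noncomputable def nA5_0 : ℕ := (nat_lit 0x55555555555555555555)
noncomputable def nA5 : H26.Net := H26.Net.cons (nat_lit 1) nA5_0 (H26.Net.nil)
noncomputable def TA : H26.Tab := ⟨(nat_lit 80), [nA0, nA1, nA2, nA3, nA4, nA5]⟩
noncomputable def taA : List ℕ := [nat_lit 0, nat_lit 0, nat_lit 1, nat_lit 1, nat_lit 1, nat_lit 0, nat_lit 1, nat_lit 1, nat_lit 1, nat_lit 1, nat_lit 1, nat_lit 0]
noncomputable def cpA : List (List ℕ × List ℕ × ℕ × ℕ) := [([nat_lit 2], [nat_lit 2, nat_lit 4], (nat_lit 1), (nat_lit 1))]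
noncomputable def nB0_0 : ℕ := (nat_lit 0x110)
noncomputable def nB0_1 : ℕ := (nat_lit 0x302)
noncomputable def nB0_2 : ℕ := (nat_lit 0x800)
noncomputable def nB0_3 : ℕ := (nat_lit 0x83)
noncomputable def nB0_4 : ℕ := (nat_lit 0x3)
noncomputable def nB0_5 : ℕ := (nat_lit 0x3)
noncomputable def nB0_6 : ℕ := (nat_lit 0xf02)
noncomputable def nB0_7 : ℕ := (nat_lit 0x2202)
noncomputable def nB0_8 : ℕ := (nat_lit 0x5540)
noncomputable def nB0 : H26.Net := H26.Net.cons (nat_lit 1) nB0_0 (H26.Net.cons (nat_lit 2) nB0_1 (H26.Net.cons (nat_lit 4) nB0_2 (H26.Net.cons (nat_lit 8) nB0_3 (H26.Net.cons (nat_lit 16) nB0_4 (H26.Net.cons (nat_lit 8) nB0_5 (H26.Net.cons (nat_lit 4) nB0_6 (H26.Net.cons (nat_lit 2) nB0_7 (H26.Net.cons (nat_lit 1) nB0_8 (H26.Net.nil)))))))))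
noncomputable def nB1_0 : ℕ := (nat_lit 0x1120)
noncomputable def nB1_1 : ℕ := (nat_lit 0x700)
noncomputable def nB1_2 : ℕ := (nat_lit 0x43)
noncomputable def nB1_3 : ℕ := (nat_lit 0x3)
noncomputable def nB1_4 : ℕ := (nat_lit 0x3)
noncomputable def nB1_5 : ℕ := (nat_lit 0xc08)
noncomputable def nB1_6 : ℕ := (nat_lit 0x320)
noncomputable def nB1_7 : ℕ := (nat_lit 0x15050)
noncomputable def nB1 : H26.Net := H26.Net.cons (nat_lit 2) nB1_0 (H26.Net.cons (nat_lit 4) nB1_1 (H26.Net.cons (nat_lit 8) nB1_2 (H26.Net.cons (nat_lit 16) nB1_3 (H26.Net.cons (nat_lit 8) nB1_4 (H26.Net.cons (nat_lit 4) nB1_5 (H26.Net.cons (nat_lit 2) nB1_6 (H26.Net.cons (nat_lit 1) nB1_7 (H26.Net.nil))))))))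
noncomputable def nB2_0 : ℕ := (nat_lit 0x14514)
noncomputable def nB2_1 : ℕ := (nat_lit 0x2010)
noncomputable def nB2_2 : ℕ := (nat_lit 0xb00)
noncomputable def nB2_3 : ℕ := (nat_lit 0x93)
noncomputable def nB2_4 : ℕ := (nat_lit 0x3)
noncomputable def nB2_5 : ℕ := (nat_lit 0x3)
noncomputable def nB2_6 : ℕ := (nat_lit 0xb04)
noncomputable def nB2_7 : ℕ := (nat_lit 0x1312)
noncomputable def nB2_8 : ℕ := (nat_lit 0x10405)
noncomputable def nB2 : H26.Net := H26.Net.cons (nat_lit 1) nB2_0 (H26.Net.cons (nat_lit 2) nB2_1 (H26.Net.cons (nat_lit 4) nB2_2 (H26.Net.cons (nat_lit 8) nB2_3 (H26.Net.cons (nat_lit 16) nB2_4 (H26.Net.cons (nat_lit 8) nB2_5 (H26.Net.cons (nat_lit 4) nB2_6 (H26.Net.cons (nat_lit 2) nB2_7 (H26.Net.cons (nat_lit 1) nB2_8 (H26.Net.nil)))))))))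
noncomputable def nB3_0 : ℕ := (nat_lit 0x140)
noncomputable def nB3_1 : ℕ := (nat_lit 0x1000)
noncomputable def nB3_2 : ℕ := (nat_lit 0x300)
noncomputable def nB3_3 : ℕ := (nat_lit 0x23)
noncomputable def nB3_4 : ℕ := (nat_lit 0x3)
noncomputable def nB3_5 : ℕ := (nat_lit 0x3)
noncomputable def nB3_6 : ℕ := (nat_lit 0x308)
noncomputable def nB3_7 : ℕ := (nat_lit 0x2010)
noncomputable def nB3_8 : ℕ := (nat_lit 0x15140)
noncomputable def nB3 : H26.Net := H26.Net.cons (nat_lit 1) nB3_0 (H26.Net.cons (nat_lit 2) nB3_1 (H26.Net.cons (nat_lit 4) nB3_2 (H26.Net.cons (nat_lit 8) nB3_3 (H26.Net.cons (nat_lit 16) nB3_4 (H26.Net.cons (nat_lit 8) nB3_5 (H26.Net.cons (nat_lit 4) nB3_6 (H26.Net.cons (nat_lit 2) nB3_7 (H26.Net.cons (nat_lit 1) nB3_8 (H26.Net.nil)))))))))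
noncomputable def nB4_0 : ℕ := (nat_lit 0x10400)
noncomputable def nB4_1 : ℕ := (nat_lit 0x1100)
noncomputable def nB4_2 : ℕ := (nat_lit 0x700)
noncomputable def nB4_3 : ℕ := (nat_lit 0x43)
noncomputable def nB4_4 : ℕ := (nat_lit 0x3)
noncomputable def nB4_5 : ℕ := (nat_lit 0x3)
noncomputable def nB4_6 : ℕ := (nat_lit 0x703)
noncomputable def nB4_7 : ℕ := (nat_lit 0x2302)
noncomputable def nB4_8 : ℕ := (nat_lit 0x14045)
noncomputable def nB4 : H26.Net := H26.Net.cons (nat_lit 1) nB4_0 (H26.Net.cons (nat_lit 2) nB4_1 (H26.Net.cons (nat_lit 4) nB4_2 (H26.Net.cons (nat_lit 8) nB4_3 (H26.Net.cons (nat_lit 16) nB4_4 (H26.Net.cons (nat_lit 8) nB4_5 (H26.Net.cons (nat_lit 4) nB4_6 (H26.Net.cons (nat_lit 2) nB4_7 (H26.Net.cons (nat_lit 1) nB4_8 (H26.Net.nil)))))))))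
noncomputable def nB5_0 : ℕ := (nat_lit 0x10410)
noncomputable def nB5_1 : ℕ := (nat_lit 0x2120)
noncomputable def nB5_2 : ℕ := (nat_lit 0x600)
noncomputable def nB5_3 : ℕ := (nat_lit 0x42)
noncomputable def nB5_4 : ℕ := (nat_lit 0x2)
noncomputable def nB5_5 : ℕ := (nat_lit 0x2)
noncomputable def nB5_6 : ℕ := (nat_lit 0x608)
noncomputable def nB5_7 : ℕ := (nat_lit 0x3321)
noncomputable def nB5_8 : ℕ := (nat_lit 0x1041)
noncomputable def nB5 : H26.Net := H26.Net.cons (nat_lit 1) nB5_0 (H26.Net.cons (nat_lit 2) nB5_1 (H26.Net.cons (nat_lit 4) nB5_2 (H26.Net.cons (nat_lit 8) nB5_3 (H26.Net.cons (nat_lit 16) nB5_4 (H26.Net.cons (nat_lit 8) nB5_5 (H26.Net.cons (nat_lit 4) nB5_6 (H26.Net.cons (nat_lit 2) nB5_7 (H26.Net.cons (nat_lit 1) nB5_8 (H26.Net.nil)))))))))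
noncomputable def TB : H26.Tab := ⟨(nat_lit 18), [nB0, nB1, nB2, nB3, nB4, nB5]⟩
noncomputable def taB : List ℕ := [nat_lit 0, nat_lit 0, nat_lit 1, nat_lit 0, nat_lit 2, nat_lit 0, nat_lit 0, nat_lit 0, nat_lit 0, nat_lit 0, nat_lit 0, nat_lit 0]
noncomputable def cpB : List (List ℕ × List ℕ × ℕ × ℕ) := [([nat_lit 1], [nat_lit 4, nat_lit 3], (nat_lit 2), (nat_lit 2))]

theorem wfA_0 : nA0.wf (nat_lit 80) = true := by decide +kernel
theorem wfA_1 : nA1.wf (nat_lit 80) = true := by decide +kernel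
theorem wfA_2 : nA2.wf (nat_lit 80) = true := by decide +kernel
theorem wfA_3 : nA3.wf (nat_lit 80) = true := by decide +kernel
theorem wfA_4 : nA4.wf (nat_lit 80) = true := by decide +kernel
theorem wfA_5 : nA5.wf (nat_lit 80) = true := by decide +kernel
theorem lgcA : TA.n ≤ 2 ^ (nat_lit 7) := by decide +kernel
theorem prA_0 : TA.prsChkJ (nat_lit 7) (nat_lit 0) (covPairs H16.A6.Rl 5 2 taA cpA) = true := by decide +kernel
theorem prA_1 : TA.prsChkJ (nat_lit 7) (nat_lit 1) (covPairs H16.A6.Rl 5 2 taA cpA) = true := by decide +kernel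
theorem prA_2 : TA.prsChkJ (nat_lit 7) (nat_lit 2) (covPairs H16.A6.Rl 5 2 taA cpA) = true := by decide +kernel
theorem prA_3 : TA.prsChkJ (nat_lit 7) (nat_lit 3) (covPairs H16.A6.Rl 5 2 taA cpA) = true := by decide +kernel
theorem prA_4 : TA.prsChkJ (nat_lit 7) (nat_lit 4) (covPairs H16.A6.Rl 5 2 taA cpA) = true := by decide +kernel
theorem prA_5 : TA.prsChkJ (nat_lit 7) (nat_lit 5) (covPairs H16.A6.Rl 5 2 taA cpA) = true := by decide +kernel
theorem prA_6 : TA.prsChkJ (nat_lit 7) (nat_lit 6) (covPairs H16.A6.Rl 5 2 taA cpA) = true := by decide +kernel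
theorem neA : ∀ q < 2 + 1, 1 < q → q ∣ 2 → ∃ b ∈ [0, TA.n - 1], pullP TA [5] (2 / q) (Nat.shiftLeft 1 b) ≠ Nat.shiftLeft 1 b := by decide +kernel
theorem kcA : allL (ltAll 5) H16.A6.Rl = true ∧ H16.A6.Rl.length = taA.length ∧ 1 < 2 ∧
    (cpA.map fun y => y.2.2.1 * y.2.2.2).sum % 2 = 1 ∧ ∀ y ∈ cpA, ltAll 5 y.1 = 0 ∧ ltAll 5 y.2.1 = 0 := by decide +kernel
theorem wfB_0 : nB0.wf (nat_lit 18) = true := by decide +kernel
theorem wfB_1 : nB1.wf (nat_lit 18) = true := by decide +kernel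
theorem wfB_2 : nB2.wf (nat_lit 18) = true := by decide +kernel
theorem wfB_3 : nB3.wf (nat_lit 18) = true := by decide +kernel
theorem wfB_4 : nB4.wf (nat_lit 18) = true := by decide +kernel
theorem wfB_5 : nB5.wf (nat_lit 18) = true := by decide +kernel
theorem lgcB : TB.n ≤ 2 ^ (nat_lit 5) := by decide +kernel
theorem prB_0 : TB.prsChkJ (nat_lit 5) (nat_lit 0) (covPairs H16.A6.Rl 5 3 taB cpB) = true := by decide +kernel
theorem prB_1 : TB.prsChkJ (nat_lit 5) (nat_lit 1) (covPairs H16.A6.Rl 5 3 taB cpB) = true := by decide +kernel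
theorem prB_2 : TB.prsChkJ (nat_lit 5) (nat_lit 2) (covPairs H16.A6.Rl 5 3 taB cpB) = true := by decide +kernel
theorem prB_3 : TB.prsChkJ (nat_lit 5) (nat_lit 3) (covPairs H16.A6.Rl 5 3 taB cpB) = true := by decide +kernel
theorem prB_4 : TB.prsChkJ (nat_lit 5) (nat_lit 4) (covPairs H16.A6.Rl 5 3 taB cpB) = true := by decide +kernel
theorem neB : ∀ q < 3 + 1, 1 < q → q ∣ 3 → ∃ b ∈ [0, TB.n - 1], pullP TB [5] (3 / q) (Nat.shiftLeft 1 b) ≠ Nat.shiftLeft 1 b := by decide +kernel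
theorem kcB : allL (ltAll 5) H16.A6.Rl = true ∧ H16.A6.Rl.length = taB.length ∧ 1 < 3 ∧
    (cpB.map fun y => y.2.2.1 * y.2.2.2).sum % 3 = 1 ∧ ∀ y ∈ cpB, ltAll 5 y.1 = 0 ∧ ltAll 5 y.2.1 = 0 := by decide +kernel

theorem wfA : TA.WF := (all_cons wfA_0 (all_cons wfA_1 (all_cons wfA_2 (all_cons wfA_3 (all_cons wfA_4 (all_cons wfA_5 all_nil))))))
theorem covA : HasCov (gen H16.A6.g 5) (Multiplicative (ZMod 2)) :=
  have := H16.A6.simple
  have ⟨σ, h1, h2, _⟩ := cover_cyc H16.A6.bound H16.A6.rels H16.A6.card (prs_S wfA lgcA (all_succ (all_succ (all_succ (all_succ (all_succ (all_succ (all_succ all_zero prA_0) prA_1) prA_2) prA_3) prA_4) prA_5) prA_6)) (pow_ne_S wfA neA) kcA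
  ⟨_, _, σ, h1, h2⟩
theorem wfB : TB.WF := (all_cons wfB_0 (all_cons wfB_1 (all_cons wfB_2 (all_cons wfB_3 (all_cons wfB_4 (all_cons wfB_5 all_nil))))))
theorem covB : HasCov (gen H16.A6.g 5) (Multiplicative (ZMod 3)) :=
  have := H16.A6.simple
  have ⟨σ, h1, h2, _⟩ := cover_cyc H16.A6.bound H16.A6.rels H16.A6.card (prs_S wfB lgcB (all_succ (all_succ (all_succ (all_succ (all_succ all_zero prB_0) prB_1) prB_2) prB_3) prB_4)) (pow_ne_S wfB neB) kcB
  ⟨_, _, σ, h1, h2⟩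
theorem schur : Cfsg.HasCyclicSchurMultiplier (alternatingGroup (Fin 6)) (2 * 3) :=
  A6.eq ▸ schur_cyc2 covA covB ScA6.ker_le (by norm_num)

end H16.CvA6
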