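import Cfsg.Agent.H16.Sc.J2

/-! Generated by tools/h16 (computation kit). -/

set_option maxRecDepth 100000
set_option maxHeartbeats 0

namespace H16.CvJ2

open H26 (jn)
open H26 (jn)
noncomputable def n0_0 : ℕ := (nat_lit 0x3300000000333303030303333300000333303030333003000)
noncomputable def n0_1 : ℕ := (nat_lit 0xc0f000300030f0c0c0003000f0c0c0300000c0000)
noncomputable def n0_2 : ℕ := (nat_lit 0xc0003300c000c3000000cc003c00c3003c00c000c00000)
noncomputable def n0_3 : ℕ := (nat_lit 0xc00c00003cc000000fcf00003333000000f300000000)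
noncomputable def n0_4 : ℕ := (nat_lit 0x3f300000000000f3cc00000000000000030)
noncomputable def n0_5 : ℕ := (nat_lit 0xc0000000000000000000000330c0c33c00)
noncomputable def n0_6 : ℕ := (nat_lit 0xc000000330c0c33c00)
noncomputable def n0_7 : ℕ := (nat_lit 0xf30000000000000000030ffff0c0c33c30)
noncomputable def n0_8 : ℕ := (nat_lit 0x330cffc00000000fcffffff000000003cf00030)
noncomputable def n0_9 : ℕ := (nat_lit 0xc30c0000fff3000003c300003ff30000c03c0000c000)
noncomputable def n0_10 : ℕ := (nat_lit 0xf0003000c3000c000c000000fc000c000c00cc00c30030)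
noncomputable def n0_11 : ℕ := (nat_lit 0x30003030000000f0c030f0c0f0c000c030c000f0c0f000f00)
noncomputable def n0_12 : ℕ := (nat_lit 0x3333000303003330300300330000000330333033303003030)
noncomputable def n0_13 : ℕ := (nat_lit 0x1440504510410050440500001441405405015104410405100)
noncomputable def n0 : H26.Net := H26.Net.cons (nat_lit 2) n0_0 (H26.Net.cons (nat_lit 4) n0_1 (H26.Net.cons (nat_lit 8) n0_2 (H26.Net.cons (nat_lit 16) n0_3 (H26.Net.cons (nat_lit 32) n0_4 (H26.Net.cons (nat_lit 64) n0_5 (H26.Net.cons (nat_lit 128) n0_6 (H26.Net.cons (nat_lit 64) n0_7 (H26.Net.cons (nat_lit 32) n0_8 (H26.Net.cons (nat_lit 16) n0_9 (H26.Net.cons (nat_lit 8) n0_10 (H26.Net.cons (nat_lit 4) n0_11 (H26.Net.cons (nat_lit 2) n0_12 (H26.Net.cons (nat_lit 1) n0_13 (H26.Net.nil))))))))))))))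
noncomputable def n1_0 : ℕ := (nat_lit 0x30000333030330003033033003333333003003303030300300)
noncomputable def n1_1 : ℕ := (nat_lit 0xc0f0303030c000f0c000c0003000f00030c0c00030c00)
noncomputable def n1_2 : ℕ := (nat_lit 0xf000c3000c00000033000300f0003000f000f0000f0000)
noncomputable def n1_3 : ℕ := (nat_lit 0xc0300000fcf0000cf3c00003cfc0000300c0000000c)
noncomputable def n1_4 : ℕ := (nat_lit 0x333c000000000c30c33f000000000000000c0)
noncomputable def n1_5 : ℕ := (nat_lit 0x300c0c30c3f00)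
noncomputable def n1_6 : ℕ := (nat_lit 0x300c0c30c3f00)
noncomputable def n1_7 : ℕ := (nat_lit 0xcc0000000000000000cf0f33f0c30c3fc0)
noncomputable def n1_8 : ℕ := (nat_lit 0x3cc303cf00000000f0ffff3f0000000030c300cc)
noncomputable def n1_9 : ℕ := (nat_lit 0x3003000033000000ff0c00000cfc0000c0ff0000030c)
noncomputable def n1_10 : ℕ := (nat_lit 0x3000cf0000003c000300330030000c00f3000300ff00c0)
noncomputable def n1_11 : ℕ := (nat_lit 0x30f000c030f000f0c0000030f030c000c0f03030c0300)
noncomputable def n1_12 : ℕ := (nat_lit 0x30033333333000030303030000033330000030303003030330)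
noncomputable def n1_13 : ℕ := (nat_lit 0x54155551445505145151515511454154150550401004444045)
noncomputable def n1 : H26.Net := H26.Net.cons (nat_lit 2) n1_0 (H26.Net.cons (nat_lit 4) n1_1 (H26.Net.cons (nat_lit 8) n1_2 (H26.Net.cons (nat_lit 16) n1_3 (H26.Net.cons (nat_lit 32) n1_4 (H26.Net.cons (nat_lit 64) n1_5 (H26.Net.cons (nat_lit 128) n1_6 (H26.Net.cons (nat_lit 64) n1_7 (H26.Net.cons (nat_lit 32) n1_8 (H26.Net.cons (nat_lit 16) n1_9 (H26.Net.cons (nat_lit 8) n1_10 (H26.Net.cons (nat_lit 4) n1_11 (H26.Net.cons (nat_lit 2) n1_12 (H26.Net.cons (nat_lit 1) n1_13 (H26.Net.nil))))))))))))))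
noncomputable def n2_0 : ℕ := (nat_lit 0x33003303300300000030000000003003030303300000000030)
noncomputable def n2_1 : ℕ := (nat_lit 0xc0300000c0c03030c030c0c000f0c0c000c0f030003030000)
noncomputable def n2_2 : ℕ := (nat_lit 0xcc00330033003f0033003c0000003c00f300c000030000)
noncomputable def n2_3 : ℕ := (nat_lit 0xff0c0000fffc00000cf00000000c0000000c000000c0)
noncomputable def n2_4 : ℕ := (nat_lit 0xf0cf00c000000000300033f0000000000000000)
noncomputable def n2_5 : ℕ := (nat_lit 0x300000000000000000f00cf0003fc00000)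
noncomputable def n2_6 : ℕ := (nat_lit 0x30f00cf0003fc00000)
noncomputable def n2_7 : ℕ := (nat_lit 0xfc0000000000000000fffcf33f3fc00000)
noncomputable def n2_8 : ℕ := (nat_lit 0x330f30c000000000f0f0ff300000000c00f00c0)
noncomputable def n2_9 : ℕ := (nat_lit 0xffcf0000ffff000000f00000c3000000330c000033f0)
noncomputable def n2_10 : ℕ := (nat_lit 0xcc003f00330033003f0030000c003000ff00c000030000)
noncomputable def n2_11 : ℕ := (nat_lit 0xc0300000c0c03030c030c0c000f0c0c000c0f03000303000c)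
noncomputable def n2_12 : ℕ := (nat_lit 0x33003303300300000030000000003003030303300000000030)
noncomputable def n2_13 : ℕ := (nat_lit 0x10440000040000040000000000440005000010000000000000)
noncomputable def n2 : H26.Net := H26.Net.cons (nat_lit 2) n2_0 (H26.Net.cons (nat_lit 4) n2_1 (H26.Net.cons (nat_lit 8) n2_2 (H26.Net.cons (nat_lit 16) n2_3 (H26.Net.cons (nat_lit 32) n2_4 (H26.Net.cons (nat_lit 64) n2_5 (H26.Net.cons (nat_lit 128) n2_6 (H26.Net.cons (nat_lit 64) n2_7 (H26.Net.cons (nat_lit 32) n2_8 (H26.Net.cons (nat_lit 16) n2_9 (H26.Net.cons (nat_lit 8) n2_10 (H26.Net.cons (nat_lit 4) n2_11 (H26.Net.cons (nat_lit 2) n2_12 (H26.Net.cons (nat_lit 1) n2_13 (H26.Net.nil))))))))))))))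
noncomputable def n3_0 : ℕ := (nat_lit 0x30000330000000000003000000300033003003030030303300)
noncomputable def n3_1 : ℕ := (nat_lit 0x30f0c030f00000003030303030c030c03030c000c000f0300)
noncomputable def n3_2 : ℕ := (nat_lit 0x33000c000f000300c3003f00cc0030003c000c00030000)
noncomputable def n3_3 : ℕ := (nat_lit 0xc3030000003f0000003000000c000000000c00000000)
noncomputable def n3_4 : ℕ := (nat_lit 0x3000000003300cc300000000000000003)
noncomputable def n3_5 : ℕ := (nat_lit 0x330300000)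
noncomputable def n3_6 : ℕ := (nat_lit 0x330300000)
noncomputable def n3_7 : ℕ := (nat_lit 0xf00000000000000003330cf3f30300003)
noncomputable def n3_8 : ℕ := (nat_lit 0x3c3ccc300000000fc0fff3000000000cc0f0003)
noncomputable def n3_9 : ℕ := (nat_lit 0xc3330000003f0000033000000fc0000003cc000003c0)
noncomputable def n3_10 : ℕ := (nat_lit 0x3f000c000f000300c3003f00cc0030003c000c00330030)
noncomputable def n3_11 : ℕ := (nat_lit 0x30f0c0f0f00000003030303030c030c03030c000c000f0f00)
noncomputable def n3_12 : ℕ := (nat_lit 0x30000330000000000003000000300033003003030030303300)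
noncomputable def n3_13 : ℕ := (nat_lit 0x4414000011500000015001410001011004400400000000000)
noncomputable def n3 : H26.Net := H26.Net.cons (nat_lit 2) n3_0 (H26.Net.cons (nat_lit 4) n3_1 (H26.Net.cons (nat_lit 8) n3_2 (H26.Net.cons (nat_lit 16) n3_3 (H26.Net.cons (nat_lit 32) n3_4 (H26.Net.cons (nat_lit 64) n3_5 (H26.Net.cons (nat_lit 128) n3_6 (H26.Net.cons (nat_lit 64) n3_7 (H26.Net.cons (nat_lit 32) n3_8 (H26.Net.cons (nat_lit 16) n3_9 (H26.Net.cons (nat_lit 8) n3_10 (H26.Net.cons (nat_lit 4) n3_11 (H26.Net.cons (nat_lit 2) n3_12 (H26.Net.cons (nat_lit 1) n3_13 (H26.Net.nil))))))))))))))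
noncomputable def n4_0 : ℕ := (nat_lit 0x30003030000033003330300330333003033300000000300000)
noncomputable def n4_1 : ℕ := (nat_lit 0xc00000c000c030f00030f0c030000000c00000f0300030c00)
noncomputable def n4_2 : ℕ := (nat_lit 0xf000cc003c00c000cf003c00c000fc003c00f0003f0000)
noncomputable def n4_3 : ℕ := (nat_lit 0xc33f00000c3c0000cf000000ccf3000030c000000000)
noncomputable def n4_4 : ℕ := (nat_lit 0x300f3000000000c00c0cf00000000000000f0)
noncomputable def n4_5 : ℕ := (nat_lit 0xf0000000000000000000f00f00c0c0000)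
noncomputable def n4_6 : ℕ := (nat_lit 0xf000f00f00c0c0000)
noncomputable def n4_7 : ℕ := (nat_lit 0xff0000000000000000cc0ff0ffcc0c00f0)
noncomputable def n4_8 : ℕ := (nat_lit 0x30c0c3f0000000000cc0cfcf0000000030fc00f0)
noncomputable def n4_9 : ℕ := (nat_lit 0xc33c00000c3f0000cf030000fcf3000030c000000f00)
noncomputable def n4_10 : ℕ := (nat_lit 0xfc00cc003c00f000cf003c00c000fc003c00f0003f00f0)
noncomputable def n4_11 : ℕ := (nat_lit 0xc00000c000c030f00030f0c030000000c00000f0300030c00)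
noncomputable def n4_12 : ℕ := (nat_lit 0x30003030000333003330300330333003033300000000300003)
noncomputable def n4_13 : ℕ := (nat_lit 0x44101004004000015100004100000400001000000000044440)
noncomputable def n4 : H26.Net := H26.Net.cons (nat_lit 2) n4_0 (H26.Net.cons (nat_lit 4) n4_1 (H26.Net.cons (nat_lit 8) n4_2 (H26.Net.cons (nat_lit 16) n4_3 (H26.Net.cons (nat_lit 32) n4_4 (H26.Net.cons (nat_lit 64) n4_5 (H26.Net.cons (nat_lit 128) n4_6 (H26.Net.cons (nat_lit 64) n4_7 (H26.Net.cons (nat_lit 32) n4_8 (H26.Net.cons (nat_lit 16) n4_9 (H26.Net.cons (nat_lit 8) n4_10 (H26.Net.cons (nat_lit 4) n4_11 (H26.Net.cons (nat_lit 2) n4_12 (H26.Net.cons (nat_lit 1) n4_13 (H26.Net.nil))))))))))))))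
noncomputable def n5_0 : ℕ := (nat_lit 0x55555555555555555555555555555555555555555555555555)
noncomputable def n5 : H26.Net := H26.Net.cons (nat_lit 1) n5_0 (H26.Net.nil)
noncomputable def T : H26.Tab := ⟨(nat_lit 200), [n0, n1, n2, n3, n4, n5]⟩
noncomputable def ta : List ℕ := [nat_lit 1, nat_lit 1, nat_lit 0, nat_lit 0, nat_lit 0, nat_lit 0, nat_lit 0, nat_lit 0, nat_lit 1, nat_lit 0, nat_lit 0, nat_lit 1, nat_lit 0, nat_lit 0, nat_lit 0]
noncomputable def cp : List (List ℕ × List ℕ × ℕ × ℕ) := [([nat_lit 0, nat_lit 0, nat_lit 2, nat_lit 0, nat_lit 2, nat_lit 1, nat_lit 1, nat_lit 2, nat_lit 0, nat_lit 3, nat_lit 0, nat_lit 2, nat_lit 4], [nat_lit 4, nat_lit 3, nat_lit 2, nat_lit 4, nat_lit 3, nat_lit 2, nat_lit 0, nat_lit 2, nat_lit 1, nat_lit 1, nat_lit 4, nat_lit 2, nat_lit 0, nat_lit 2, nat_lit 1, nat_lit 4], (nat_lit 1), (nat_lit 1))]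

theorem wf_0 : n0.wf (nat_lit 200) = true := by decide +kernel
theorem wf_1 : n1.wf (nat_lit 200) = true := by decide +kernel
theorem wf_2 : n2.wf (nat_lit 200) = true := by decide +kernel
theorem wf_3 : n3.wf (nat_lit 200) = true := by decide +kernel
theorem wf_4 : n4.wf (nat_lit 200) = true := by decide +kernel
theorem wf_5 : n5.wf (nat_lit 200) = true := by decide +kernel
theorem lgc : T.n ≤ 2 ^ (nat_lit 8) := by decide +kernel
theorem pr0 : T.prsChkJ (nat_lit 8) (nat_lit 0) (covPairs H16.J2.Rl 5 2 ta cp) = true := by decide +kernel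
theorem pr1 : T.prsChkJ (nat_lit 8) (nat_lit 1) (covPairs H16.J2.Rl 5 2 ta cp) = true := by decide +kernel
theorem pr2 : T.prsChkJ (nat_lit 8) (nat_lit 2) (covPairs H16.J2.Rl 5 2 ta cp) = true := by decide +kernel
theorem pr3 : T.prsChkJ (nat_lit 8) (nat_lit 3) (covPairs H16.J2.Rl 5 2 ta cp) = true := by decide +kernel
theorem pr4 : T.prsChkJ (nat_lit 8) (nat_lit 4) (covPairs H16.J2.Rl 5 2 ta cp) = true := by decide +kernel
theorem pr5 : T.prsChkJ (nat_lit 8) (nat_lit 5) (covPairs H16.J2.Rl 5 2 ta cp) = true := by decide +kernel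
theorem pr6 : T.prsChkJ (nat_lit 8) (nat_lit 6) (covPairs H16.J2.Rl 5 2 ta cp) = true := by decide +kernel
theorem pr7 : T.prsChkJ (nat_lit 8) (nat_lit 7) (covPairs H16.J2.Rl 5 2 ta cp) = true := by decide +kernel
theorem ne : ∀ q < 2 + 1, 1 < q → q ∣ 2 → ∃ b ∈ [0, T.n - 1], pullP T [5] (2 / q) (Nat.shiftLeft 1 b) ≠ Nat.shiftLeft 1 b := by decide +kernel
theorem kc : allL (ltAll 5) H16.J2.Rl = true ∧ H16.J2.Rl.length = ta.length ∧ 1 < 2 ∧
    (cp.map fun y => y.2.2.1 * y.2.2.2).sum % 2 = 1 ∧ ∀ y ∈ cp, ltAll 5 y.1 = 0 ∧ ltAll 5 y.2.1 = 0 := by decide +kernel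

theorem wf : T.WF := (all_cons wf_0 (all_cons wf_1 (all_cons wf_2 (all_cons wf_3 (all_cons wf_4 (all_cons wf_5 all_nil))))))
theorem cover : ∃ σ : gen T.π 5 →* gen H16.J2.g 5, Cfsg.IsStemExtension σ ∧
    Nonempty (σ.ker ≃* Multiplicative (ZMod 2)) ∧
      ∀ k (hk : k < 5), σ ⟨T.π k, mem_gen T.π hk⟩ = ⟨H16.J2.g k, mem_gen H16.J2.g hk⟩ :=
  have : IsSimpleGroup (gen H16.J2.g 5) := H16.J2.simple
  cover_cyc H16.J2.bound H16.J2.rels H16.J2.card (prs_S wf lgc (all_succ (all_succ (all_succ (all_succ (all_succ (all_succ (all_succ (all_succ all_zero pr0) pr1) pr2) pr3) pr4) pr5) pr6) pr7)) (pow_ne_S wf ne) kc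
theorem schur : Cfsg.HasCyclicSchurMultiplier (gen H16.J2.g 5) 2 :=
  have ⟨_, h1, h2, _⟩ := cover
  schur_cyc ⟨h1, h2⟩ ScJ2.ker_le

end H16.CvJ2
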