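import Cfsg.Agent.H16.Sc.M12

/-! Generated by tools/h16 (computation kit). -/

set_option maxRecDepth 100000
set_option maxHeartbeats 0

namespace H16.CvM12

open H26 (jn)
open H26 (jn)
noncomputable def n0_0 : ℕ := (nat_lit 0xcf)
noncomputable def n0_1 : ℕ := (nat_lit 0xcf)
noncomputable def n0_2 : ℕ := (nat_lit 0xcf)
noncomputable def n0_3 : ℕ := (nat_lit 0x30f00)
noncomputable def n0_4 : ℕ := (nat_lit 0x40444)
noncomputable def n0 : H26.Net := H26.Net.cons (nat_lit 8) n0_0 (H26.Net.cons (nat_lit 16) n0_1 (H26.Net.cons (nat_lit 8) n0_2 (H26.Net.cons (nat_lit 4) n0_3 (H26.Net.cons (nat_lit 1) n0_4 (H26.Net.nil)))))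
noncomputable def n1_0 : ℕ := (nat_lit 0xfc)
noncomputable def n1_1 : ℕ := (nat_lit 0xfc)
noncomputable def n1_2 : ℕ := (nat_lit 0xfc)
noncomputable def n1_3 : ℕ := (nat_lit 0xf0300)
noncomputable def n1_4 : ℕ := (nat_lit 0x400444)
noncomputable def n1 : H26.Net := H26.Net.cons (nat_lit 8) n1_0 (H26.Net.cons (nat_lit 16) n1_1 (H26.Net.cons (nat_lit 8) n1_2 (H26.Net.cons (nat_lit 4) n1_3 (H26.Net.cons (nat_lit 1) n1_4 (H26.Net.nil)))))
noncomputable def n2_0 : ℕ := (nat_lit 0xf0000)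
noncomputable def n2_1 : ℕ := (nat_lit 0x3c)
noncomputable def n2_2 : ℕ := (nat_lit 0x3c)
noncomputable def n2_3 : ℕ := (nat_lit 0x3c)
noncomputable def n2_4 : ℕ := (nat_lit 0x30c00)
noncomputable def n2_5 : ℕ := (nat_lit 0x333300)
noncomputable def n2_6 : ℕ := (nat_lit 0x10450)
noncomputable def n2 : H26.Net := H26.Net.cons (nat_lit 4) n2_0 (H26.Net.cons (nat_lit 8) n2_1 (H26.Net.cons (nat_lit 16) n2_2 (H26.Net.cons (nat_lit 8) n2_3 (H26.Net.cons (nat_lit 4) n2_4 (H26.Net.cons (nat_lit 2) n2_5 (H26.Net.cons (nat_lit 1) n2_6 (H26.Net.nil)))))))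
noncomputable def n3_0 : ℕ := (nat_lit 0xf0000)
noncomputable def n3_1 : ℕ := (nat_lit 0xf0)
noncomputable def n3_2 : ℕ := (nat_lit 0xf0)
noncomputable def n3_3 : ℕ := (nat_lit 0xf0)
noncomputable def n3_4 : ℕ := (nat_lit 0xc0300)
noncomputable def n3_5 : ℕ := (nat_lit 0x333300)
noncomputable def n3_6 : ℕ := (nat_lit 0x550)
noncomputable def n3 : H26.Net := H26.Net.cons (nat_lit 4) n3_0 (H26.Net.cons (nat_lit 8) n3_1 (H26.Net.cons (nat_lit 16) n3_2 (H26.Net.cons (nat_lit 8) n3_3 (H26.Net.cons (nat_lit 4) n3_4 (H26.Net.cons (nat_lit 2) n3_5 (H26.Net.cons (nat_lit 1) n3_6 (H26.Net.nil)))))))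
noncomputable def n4_0 : ℕ := (nat_lit 0xc0)
noncomputable def n4_1 : ℕ := (nat_lit 0x300)
noncomputable def n4_2 : ℕ := (nat_lit 0x330000)
noncomputable def n4_3 : ℕ := (nat_lit 0x501100)
noncomputable def n4 : H26.Net := H26.Net.cons (nat_lit 8) n4_0 (H26.Net.cons (nat_lit 4) n4_1 (H26.Net.cons (nat_lit 2) n4_2 (H26.Net.cons (nat_lit 1) n4_3 (H26.Net.nil))))
noncomputable def n5_0 : ℕ := (nat_lit 0xc0)
noncomputable def n5_1 : ℕ := (nat_lit 0xc0)
noncomputable def n5_2 : ℕ := (nat_lit 0xf0)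
noncomputable def n5_3 : ℕ := (nat_lit 0x30300)
noncomputable def n5_4 : ℕ := (nat_lit 0x50000)
noncomputable def n5 : H26.Net := H26.Net.cons (nat_lit 8) n5_0 (H26.Net.cons (nat_lit 16) n5_1 (H26.Net.cons (nat_lit 8) n5_2 (H26.Net.cons (nat_lit 2) n5_3 (H26.Net.cons (nat_lit 1) n5_4 (H26.Net.nil)))))
noncomputable def n6_0 : ℕ := (nat_lit 0x300300)
noncomputable def n6_1 : ℕ := (nat_lit 0xf0000)
noncomputable def n6_2 : ℕ := (nat_lit 0x3)
noncomputable def n6_3 : ℕ := (nat_lit 0xf)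
noncomputable def n6_4 : ℕ := (nat_lit 0x3)
noncomputable def n6_5 : ℕ := (nat_lit 0xf0c00)
noncomputable def n6_6 : ℕ := (nat_lit 0x330300)
noncomputable def n6_7 : ℕ := (nat_lit 0x50000)
noncomputable def n6 : H26.Net := H26.Net.cons (nat_lit 2) n6_0 (H26.Net.cons (nat_lit 4) n6_1 (H26.Net.cons (nat_lit 8) n6_2 (H26.Net.cons (nat_lit 16) n6_3 (H26.Net.cons (nat_lit 8) n6_4 (H26.Net.cons (nat_lit 4) n6_5 (H26.Net.cons (nat_lit 2) n6_6 (H26.Net.cons (nat_lit 1) n6_7 (H26.Net.nil))))))))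
noncomputable def n7_0 : ℕ := (nat_lit 0x30)
noncomputable def n7_1 : ℕ := (nat_lit 0x30)
noncomputable def n7_2 : ℕ := (nat_lit 0x30)
noncomputable def n7_3 : ℕ := (nat_lit 0xc0f)
noncomputable def n7_4 : ℕ := (nat_lit 0x33)
noncomputable def n7_5 : ℕ := (nat_lit 0x101014)
noncomputable def n7 : H26.Net := H26.Net.cons (nat_lit 8) n7_0 (H26.Net.cons (nat_lit 16) n7_1 (H26.Net.cons (nat_lit 8) n7_2 (H26.Net.cons (nat_lit 4) n7_3 (H26.Net.cons (nat_lit 2) n7_4 (H26.Net.cons (nat_lit 1) n7_5 (H26.Net.nil))))))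
noncomputable def n8_0 : ℕ := (nat_lit 0x555555)
noncomputable def n8 : H26.Net := H26.Net.cons (nat_lit 1) n8_0 (H26.Net.nil)
noncomputable def T : H26.Tab := ⟨(nat_lit 24), [n0, n1, n2, n3, n4, n5, n6, n7, n8]⟩
noncomputable def ta : List ℕ := [nat_lit 0, nat_lit 0, nat_lit 0, nat_lit 0, nat_lit 0, nat_lit 0, nat_lit 0, nat_lit 0, nat_lit 0, nat_lit 0, nat_lit 0, nat_lit 0, nat_lit 0, nat_lit 0, nat_lit 0, nat_lit 0, nat_lit 1, nat_lit 1, nat_lit 0, nat_lit 0]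
noncomputable def cp : List (List ℕ × List ℕ × ℕ × ℕ) := [([nat_lit 7, nat_lit 4], [nat_lit 1, nat_lit 5, nat_lit 2, nat_lit 6, nat_lit 1], (nat_lit 1), (nat_lit 1))]

theorem wf_0 : n0.wf (nat_lit 24) = true := by decide +kernel
theorem wf_1 : n1.wf (nat_lit 24) = true := by decide +kernel
theorem wf_2 : n2.wf (nat_lit 24) = true := by decide +kernel
theorem wf_3 : n3.wf (nat_lit 24) = true := by decide +kernel
theorem wf_4 : n4.wf (nat_lit 24) = true := by decide +kernel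
theorem wf_5 : n5.wf (nat_lit 24) = true := by decide +kernel
theorem wf_6 : n6.wf (nat_lit 24) = true := by decide +kernel
theorem wf_7 : n7.wf (nat_lit 24) = true := by decide +kernel
theorem wf_8 : n8.wf (nat_lit 24) = true := by decide +kernel
theorem lgc : T.n ≤ 2 ^ (nat_lit 5) := by decide +kernel
theorem pr0 : T.prsChkJ (nat_lit 5) (nat_lit 0) (covPairs H15.MM12.Rl 8 2 ta cp) = true := by decide +kernel
theorem pr1 : T.prsChkJ (nat_lit 5) (nat_lit 1) (covPairs H15.MM12.Rl 8 2 ta cp) = true := by decide +kernel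
theorem pr2 : T.prsChkJ (nat_lit 5) (nat_lit 2) (covPairs H15.MM12.Rl 8 2 ta cp) = true := by decide +kernel
theorem pr3 : T.prsChkJ (nat_lit 5) (nat_lit 3) (covPairs H15.MM12.Rl 8 2 ta cp) = true := by decide +kernel
theorem pr4 : T.prsChkJ (nat_lit 5) (nat_lit 4) (covPairs H15.MM12.Rl 8 2 ta cp) = true := by decide +kernel
theorem ne : ∀ q < 2 + 1, 1 < q → q ∣ 2 → ∃ b ∈ [0, T.n - 1], pullP T [8] (2 / q) (Nat.shiftLeft 1 b) ≠ Nat.shiftLeft 1 b := by decide +kernel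
theorem kc : allL (ltAll 8) H15.MM12.Rl = true ∧ H15.MM12.Rl.length = ta.length ∧ 1 < 2 ∧
    (cp.map fun y => y.2.2.1 * y.2.2.2).sum % 2 = 1 ∧ ∀ y ∈ cp, ltAll 8 y.1 = 0 ∧ ltAll 8 y.2.1 = 0 := by decide +kernel

theorem wf : T.WF := (all_cons wf_0 (all_cons wf_1 (all_cons wf_2 (all_cons wf_3 (all_cons wf_4 (all_cons wf_5 (all_cons wf_6 (all_cons wf_7 (all_cons wf_8 all_nil)))))))))
theorem cover : ∃ σ : gen T.π 8 →* gen H15.MM12.g 8, Cfsg.IsStemExtension σ ∧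
    Nonempty (σ.ker ≃* Multiplicative (ZMod 2)) ∧
      ∀ k (hk : k < 8), σ ⟨T.π k, mem_gen T.π hk⟩ = ⟨H15.MM12.g k, mem_gen H15.MM12.g hk⟩ :=
  have : IsSimpleGroup (gen H15.MM12.g 8) := H15.MM12.gen_eq ▸ H15.simple_M12
  cover_cyc H15.MM12.bound H15.MM12.rels H15.MM12.card (prs_S wf lgc (all_succ (all_succ (all_succ (all_succ (all_succ all_zero pr0) pr1) pr2) pr3) pr4)) (pow_ne_S wf ne) kc
theorem schur : Cfsg.HasCyclicSchurMultiplier (gen H15.MM12.g 8) 2 :=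
  have ⟨_, h1, h2, _⟩ := cover
  schur_cyc ⟨h1, h2⟩ ScM12.ker_le

end H16.CvM12
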