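import Cfsg.Agent.H16.Cv.McL.C0

/-! Generated by tools/h16 (computation kit). -/

set_option maxRecDepth 100000
set_option maxHeartbeats 0

namespace H16.CvMcL

open H26 (jn)
theorem wf : T.WF := (all_cons wf_0 (all_cons wf_1 (all_cons wf_2 (all_cons wf_3 (all_cons wf_4 (all_cons wf_5 (all_cons wf_6 all_nil)))))))
theorem cover : ∃ σ : gen T.π 6 →* gen H15.McL.g 6, Cfsg.IsStemExtension σ ∧
    Nonempty (σ.ker ≃* Multiplicative (ZMod 3)) ∧
      ∀ k (hk : k < 6), σ ⟨T.π k, mem_gen T.π hk⟩ = ⟨H15.McL.g k, mem_gen H15.McL.g hk⟩ :=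
  have : IsSimpleGroup (gen H15.McL.g 6) := H15.McL.simple
  cover_cyc H15.McL.bound H15.McL.rels H15.McL.card (prs_S wf lgc (all_succ (all_succ (all_succ (all_succ (all_succ (all_succ (all_succ (all_succ (all_succ (all_succ (all_succ (all_succ (all_succ (all_succ (all_succ (all_succ (all_succ all_zero pr0) pr1) pr2) pr3) pr4) pr5) pr6) pr7) pr8) pr9) pr10) pr11) pr12) pr13) pr14) pr15) pr16)) (pow_ne_S wf ne) kc
theorem schur : Cfsg.HasCyclicSchurMultiplier (gen H15.McL.g 6) 3 :=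
  have ⟨_, h1, h2, _⟩ := cover
  schur_cyc ⟨h1, h2⟩ ScMcL.ker_le

end H16.CvMcL
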